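import Mathlib
import Cfsg.Agent.ABG.CharDef
import Cfsg.Agent.ABG.CharWrA
import Cfsg.Agent.ABG.CharWrP

/-! The local data for wreathed Sylow 2-subgroups (group theory only). -/

set_option autoImplicit false

namespace Cfsg.Agent.ABG

open Subgroup Cfsg.Agent.Inv Cfsg.Agent.Inv.Fz Cfsg.Agent.ABG.Grp

theorem Grp.exists_chi {t : ℕ} (ht : 1 ≤ t) : ∃ χ : Multiplicative (R2 t) →* ℂˣ,
    (∀ a, χ a * χ a * (χ a * χ a) = 1) ∧ ((χ (.ofAdd 1) * χ (.ofAdd 1) : ℂˣ) : ℂ) = -1 := by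
  let ζ : ℂˣ := .mk0 Complex.I Complex.I_ne_zero
  have h4 : ζ ^ 4 = 1 := Units.ext (by simp [ζ])
  have h : ζ ^ 2 ^ (t + 1) = 1 := by
    obtain ⟨k, rfl⟩ : ∃ k, t = k + 1 := ⟨t - 1, by omega⟩
    rw [show 2 ^ (k + 1 + 1) = 4 * 2 ^ k by ring, pow_mul, h4, one_pow]
  refine ⟨(AddChar.zmodChar _ h).toMonoidHom, fun a => ?_, ?_⟩
  · change ζ ^ _ * ζ ^ _ * (ζ ^ _ * ζ ^ _) = 1
    rw [← mul_pow, ← mul_pow, show ζ * ζ * (ζ * ζ) = ζ ^ 4 by simp only [pow_succ, pow_zero,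
      one_mul, mul_assoc], h4, one_pow]
  · have := AddChar.zmodChar_apply' h 1
    rw [Nat.cast_one, pow_one] at this
    change ((AddChar.zmodChar _ h 1 * AddChar.zmodChar _ h 1 : ℂˣ) : ℂ) = -1
    simp [this, ζ]

universe u

theorem exists_wrd {G : Type u} [Group G] [Finite G] (hG : ∀ K : Subgroup G, K.index ≠ 2)
    (S : Sylow 2 G) (hS : Cfsg.IsWreathed (S : Subgroup G)) {z : G} (hz : orderOf z = 2)
    (hzc : ∀ s ∈ (S : Subgroup G), s * z = z * s) {U : Subgroup G} (hUS : U ≤ S)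
    (hU : IsKleinFour U) (hUn : ∀ s ∈ (S : Subgroup G), ∀ u ∈ U, s * u * s⁻¹ ∈ U) :
    ∃ (K : Type u) (_ : Group K) (Z : Subgroup G) (π : centralizer ({z} : Set G) →* K)
      (P : Sylow 2 K) (σ τ : K) (k : ℕ) (μ : K →* ℂˣ) (x : centralizer ({z} : Set G))
      (C : Subgroup G) (hC : C ≤ centralizer ({z} : Set G)) (v : C →* C) (A : Subgroup G)
      (hA : A ≤ centralizer ({z} : Set G)) (ρ w : A →* A) (ν : centralizer ({z} : Set G) →* ℂˣ),
      WrD z Z π P σ τ k μ x C hC v A hA ρ w ν ∧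
      Nat.card (centralizer ({z, (x : G)} : Set G)) = Nat.card (centralizer (U : Set G)) := by
  classical
  have hS' : (S : Subgroup G) ≤ centralizer {z} := fun s hs =>
    mem_centralizer_singleton_iff.2 (hzc s hs)
  let R := (isSylIn_sylow S hS').toSylow
  have hR : (R : Subgroup (centralizer ({z} : Set G))).map (centralizer ({z} : Set G)).subtype = S :=
    map_subgroupOf_eq_of_le hS'
  obtain ⟨t, u, w, W⟩ := exists_wr (S := (R : Subgroup (centralizer ({z} : Set G))))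
    (isWreathed_of_equiv (subgroupOfEquivOfLe hS').symm hS)
  have W' : Wr (S : Subgroup G) t (fun a b => (u a b : G)) fun a b => (w a b : G) :=
    hR ▸ W.map _ (centralizer ({z} : Set G)).subtype_injective
  have hRS : ∀ x : centralizer ({z} : Set G), (x : G) ∈ (S : Subgroup G) → x ∈ (R : Subgroup _) :=
    fun _ h => h
  obtain ⟨c, hzc'⟩ := (W'.mem_centralizer_iff' (mem_sylow_of_commute S (k := 1) hz hzc)).1 hzc
  obtain rfl := W'.eq_hh_of_diag (hzc' ▸ mul_self_of_two hz) (hzc' ▸ ne_one_of_two hz)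
  have hne : ¬ IsConj (u (hh t) (hh t)) (u (hh t) 0) := fun h =>
    hh_ne_zero (W'.u_eq.1 (hzc'.symm.trans (eq_of_isConj_center hzc'.symm h).symm)).2
  have a : ¬ OddAut W.base := fun ho => hne (W.isConj_z_h0 ho)
  obtain ⟨a', b'⟩ := W'.pResidual_eq_top_iff.1 (no_index_two_iff.1 hG)
  have eS : ∀ c d, ∀ x : centralizer ({z} : Set G), (x : G) ∈ W'.sub c d ↔ x ∈ W.sub c d :=
    fun c d x => by
      by_cases hx : x ∈ (R : Subgroup _)
      · obtain ⟨a, b, rfl | rfl⟩ := W.cases hx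
        exacts [W'.u_mem_sub.trans W.u_mem_sub.symm, W'.w_mem_sub.trans W.w_mem_sub.symm]
      · exact iff_of_false (fun h => hx (hRS _ (W'.sub_le _ _ h))) fun h => hx (W.sub_le _ _ h)
  have eA : ∀ x : centralizer ({z} : Set G), (x : G) ∈ W'.base ↔ x ∈ W.base := fun x => by
    simp only [W'.mem_base, W.mem_base, Subtype.ext_iff]
  have eZ : ∀ x : centralizer ({z} : Set G), (x : G) ∈ zpowers (u 1 1 : G) ↔
      x ∈ zpowers (u 1 1) := fun x => by
    rw [W'.mem_Z, W.mem_Z]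
    simp only [Subtype.ext_iff]
  have b : OddAut (W.V 0) := by
    obtain ⟨ρ, hρ, ho, hc⟩ := b'
    have := W'.odd_mem_centralizer_Z hρ ho z (W'.mem_Z.2 ⟨_, hzc'⟩)
    have h2 : W'.V 0 = (W.V 0).map (centralizer ({z} : Set G)).subtype := by
      refine le_antisymm (fun x hx => ⟨⟨x, hS' (W'.V_le _ hx)⟩, (eS _ _ _).1 hx, rfl⟩) ?_
      rintro _ ⟨x, hx, rfl⟩
      exact (eS _ _ _).2 hx
    rw [h2] at hρ hc
    exact oddAut_of_map (mem_centralizer_singleton_iff.2 this.symm) hρ ho hc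
  have hzZ : z ∈ zpowers (u 1 1 : G) := W'.mem_Z.2 ⟨_, hzc'⟩
  obtain ⟨⟨K, _, π, L⟩, hZ⟩ := exists_cLoc hz R (Z := zpowers (u 1 1 : G))
    (W'.isPGroup.to_le W'.Z_le) (W'.Z_le_centralizer W'.Z_le) hzZ
    (fun x hx h1 => hzc' ▸ z_mem_zpowers_of_mem W' hx h1) (fun c hc => hRS c (W'.Z_le hc))
    fun c hc g hg => W.center_fix a ((eZ c).1 hc) g hg
  have hπ : ∀ {x}, x ∈ (R : Subgroup _) → (π x = 1 ↔ x ∈ zpowers (u 1 1)) := fun hx =>
    (L.map_eq_one_iff W.isPGroup (fun x hx y hy => (W'.Z_le_centralizer le_rfl hy x hx).symm)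
      hx).trans (eZ _)
  have hπu : ∀ {a b}, π (u a b) = 1 ↔ a = b := (hπ (W.u_mem _ _)).trans (u_mem_Z W)
  have hinv : ∀ a b, π (u b a) = (π (u a b))⁻¹ := fun a b =>
    eq_inv_of_mul_eq_one_left (by rw [← map_mul, W.uu, hπu, add_comm])
  have hpow : ∀ n : ℕ, π (u 1 0) ^ n = π (u n 0) := fun n => by
    rw [← map_pow, W.u_pow, mul_one, mul_zero]
  have hσh : π (u 1 0) ^ 2 ^ t = π (u (hh t) 0) := by rw [hpow, Nat.cast_pow]; rfl
  have hσ : orderOf (π (u 1 0)) = 2 ^ (t + 1) :=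
    orderOf_eq_prime_pow (fun h => hh_ne_zero (hπu.1 (hσh ▸ h)))
      (by rw [hpow, hπu, ZMod.natCast_self])
  have hrel : π (w 0 0) * π (u 1 0) * (π (w 0 0))⁻¹ = (π (u 1 0))⁻¹ := by
    rw [← map_inv, ← map_mul, ← map_mul, W.conj_wu, hinv]
  obtain ⟨d, du, dw⟩ := exists_det W
  have hd : ∀ x : (R : Subgroup (centralizer ({z} : Set G))), d x = 1 ↔ x.1 ∈ W.dsub 1 :=
    fun ⟨x, hx⟩ => by
      obtain ⟨a, b, rfl | rfl⟩ := W.cases hx
      · rw [du, W.u_mem_dsub, one_mul, ofAdd_eq_one]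
      · rw [dw, W.w_mem_dsub, one_mul, ofAdd_eq_one]
  obtain ⟨δ, δ1, δ2⟩ := exists_extend R d fun x hx =>
    (hd x).2 (inf_pResidual_le R (fun _ hx _ hg => W.focal_Y a hx hg) ⟨x.2, hx⟩)
  have δu : ∀ a b, δ (u a b) = .ofAdd (a + b) := fun a b => (δ1 ⟨_, W.u_mem a b⟩).trans (du a b)
  have δw : ∀ a b, δ (w a b) = .ofAdd (a + b - hh t) := fun a b =>
    (δ1 ⟨_, W.w_mem a b⟩).trans (dw a b)
  obtain ⟨χ, χ4, χ1⟩ := exists_chi W.ht
  have χ2 : ∀ a, χ (.ofAdd (a - hh t)) * χ (.ofAdd (a - hh t)) = χ (.ofAdd a) * χ (.ofAdd a) :=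
    fun a => by
      rw [← χ.map_mul, ← χ.map_mul, ← ofAdd_add, ← ofAdd_add]
      exact congrArg (fun x => χ (.ofAdd x)) (by linear_combination -two_mul_hh)
  obtain ⟨μ, hμ⟩ := L.exists_lift (χ.comp δ * χ.comp δ)
    (fun o ho => by simp [δ2 o (oddCore_le_pResidual ho)]) fun x hx => by
      obtain ⟨a, rfl⟩ := W.mem_Z.1 ((eZ x).1 hx)
      simpa [δu] using χ4 (.ofAdd a)
  replace hμ : ∀ g, μ (π g) = χ (δ g) * χ (δ g) := hμ
  have hA : W'.base ≤ centralizer {z} := W'.base_le.trans hS'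
  have hC : W'.sub 1 1 ≤ centralizer {z} := (W'.sub_le _ _).trans hS'
  obtain ⟨ρ, T⟩ := WrP.exists_s3t W' a' (v := cjr (w0_mem_normalizer W')) fun _ => rfl
  have hA' : ∀ x : W'.base, ∃ a b, inclusion hA x = u a b ∧
      inclusion hA (cjr (w0_mem_normalizer W') x) = u b a := fun x => by
    obtain ⟨a, b, e⟩ := W'.mem_base.1 x.2
    exact ⟨a, b, Subtype.ext e, Subtype.ext
      ((coe_cjr _ x).trans (by rw [e, W'.conj_wu]))⟩
  have hb : ∀ e, ∃ b : W'.base, inclusion hA (b * (cjr (w0_mem_normalizer W') b)⁻¹) = u e (-e) :=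
    fun e => ⟨⟨_, W'.u_mem_base e 0⟩, Subtype.ext (by
      change (u e 0 : G) * ((w 0 0 : G) * u e 0 * (w 0 0 : G)⁻¹)⁻¹ = _
      rw [W'.conj_wu, W'.u_inv, W'.uu, neg_zero, add_zero, zero_add])⟩
  have hns : ∀ e : R2 t, e ≠ 0 → e ≠ hh t → ¬ Sing (zpowers (u 1 1 : G)) (u e (-e) : G) :=
    fun e h0 h1 => not_sing_of_inv T (a := ⟨_, W'.u_mem_base e (-e)⟩) (Subtype.ext (by
      change (w 0 0 : G) * u e (-e) * (w 0 0 : G)⁻¹ = (u e (-e) : G)⁻¹
      rw [W'.conj_wu, W'.u_inv, neg_neg])) fun h =>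
        (two_mul_eq_zero.1 (by linear_combination (u_mem_Z W').1 h)).elim h0 h1
  refine ⟨K, _, _, π, R.mapSurjective L.surj, π (u 1 0), π (w 0 0), t, μ, u (hh t) 0, _, hC,
    cjr (h0_mem_normalizer W'), _, hA, ρ, _, χ.comp δ,
    ⟨⟨hz, hzZ, L, hZ, ⟨hσ, by rw [← map_mul, W.ww, hπu], hrel,
      Blk.Q8.notMem_zpowers_of_inverts W.ht hσ hrel, ?_⟩, W.ht, fun g => ?_, ?_, ?_,
      hσh ▸ π.map_isConj (W.isConj_h0_w b).symm, fun s hs => hzc' ▸ (W'.isConj_z a' b' hs).symm,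
      fun s => ⟨fun h => ⟨(orderOf_eq_of_isConj h).symm.trans W.orderOf_h0, fun e => ?_⟩,
        fun ⟨h1, h2⟩ => ?_⟩⟩, ct W' hZ, isCyclic_C W', ?_, T, ?_, fun x c h => ?_,
      fun g => (hμ g).symm, isConj_inclusion_cjr hC _ (u _ _).2,
      isConj_inclusion_cjr hA _ (w _ _).2, ⟨⟨_, W'.w_mem_sub_self 1 1⟩, ?_⟩,
      ⟨⟨_, W'.Z_le_sub 1 1 (mem_zpowers _)⟩, fun e => ?_⟩, fun x => ?_,
      ⟨⟨_, W'.u_mem_base 1 0⟩, rfl⟩, fun x => ?_, hσh.symm, fun s s' hs hs' p hp => ?_,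
      fun x y e => ?_, fun F hF _ _ => WrP.par_incl W b hA hC eA (eS 1 1) F hF⟩, ?_⟩
  · rw [Sylow.coe_mapSurjective, ← Set.image_pair, ← MonoidHom.map_closure]
    congr 1
    exact le_antisymm ((closure_le _).2 (Set.insert_subset (W.u_mem 1 0)
      (Set.singleton_subset_iff.2 (W.w_mem 0 0))))
      (W.le_of_u_one_zero (subset_closure (.inl rfl)) (subset_closure (.inr rfl)))
  · obtain ⟨g, rfl⟩ := L.surj g
    rw [hμ, χ4]
  · rw [hμ, δu, add_zero, χ1]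
  · rw [hμ, δw, χ2, add_zero, ofAdd_zero, map_one, mul_one]
  · obtain rfl : s = u (hh t) (hh t) := Subtype.ext (e.trans hzc')
    exact hne h.symm
  · rcases W.two_conj h1 with h | h | h
    exacts [absurd (eq_of_isConj_center hzc'.symm h) h2, h, (W.isConj_h0_w b).trans h]
  · rw [W'.card_sub_one, card_Z W', pow_succ']
  · rw [W'.card_base, card_Z W', two_mul, pow_add]
  · obtain ⟨a, b, e⟩ := W'.mem_base.1 x.2
    rcases (mem_C W').1 c.2 with h1 | ⟨c, e'⟩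
    · exact W'.mem_Z.2 h1
    · exact absurd (e ▸ e' ▸ h) (not_isConj_u_w W' _ _ _)
  · change ((μ (π (w 1 0)) : ℂˣ) : ℂ) = -1
    rw [hμ, δw, χ2, add_zero, χ1]
  · have := (W'.u_eq.1 ((W'.conj_uu _ _ 1 1).symm.trans
      ((congrArg Subtype.val e).trans (W'.u_inv 1 1)))).1
    exact r2_two_ne_zero W.ht (by linear_combination this)
  · obtain ⟨a, b, e, -⟩ := hA' x
    have := W.uu (a - b) 0 b b
    rw [sub_add_cancel, zero_add] at this
    rw [e, ← this, map_mul, hπu.2 rfl, mul_one, ← ZMod.natCast_zmod_val (a - b), ← hpow]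
    exact npow_mem_zpowers _ _
  · obtain ⟨a, b, e, e'⟩ := hA' x
    rw [e, e', hinv]
  · obtain ⟨y, e, -, ⟨n, hn⟩, hy⟩ := hp
    have h1 : δ p = 1 := by
      have h2 := congrArg δ e
      rw [map_mul, map_mul, ← hom_isConj δ hs, ← hom_isConj δ hs', δu, ← ofAdd_add,
        δ2 y (odd_mem_pResidual (Nat.odd_iff.2 (by omega))), mul_one] at h2
      exact h2.trans (congrArg _ (by linear_combination two_mul_hh))
    obtain ⟨y, hy, -, h⟩ := exists_isConj_mem_of_orderOf R hn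
    have h2 := (hd ⟨y, hy⟩).1 ((δ1 _).symm.trans ((hom_isConj δ h).trans h1))
    obtain ⟨a, c, rfl | rfl⟩ := W.cases hy
    · obtain rfl : c = -a := by linear_combination W.u_mem_dsub.1 h2
      exact (hb a).imp fun b e => by rw [e]; exact h.symm
    · obtain rfl : c = hh t - a := by linear_combination W.w_mem_dsub.1 h2
      obtain ⟨g, -, -, q, i, -, e⟩ := W.exists_of_oddAut_V b
      have e' := W.conj_uw (i - a) 0 a (hh t - a)
      rw [show a + (i - a - 0) = i by ring, show hh t - a - (i - a - 0) = hh t - i by ring] at e'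
      refine (hb q).imp fun b e'' => ?_
      rw [e'']
      exact h.symm.trans ((isConj_iff.2 ⟨_, e'⟩).trans (isConj_iff.2 ⟨_, e⟩).symm)
  · obtain ⟨a, c, e1, e2⟩ := hA' x
    obtain rfl : y = (u (a - c) (-(a - c)) : G) := by
      have h : inclusion hA (x * (cjr (w0_mem_normalizer W') x)⁻¹) = u (a - c) (-(a - c)) := by
        rw [map_mul, map_inv, e1, e2, W.u_inv, W.uu]; congr 1 <;> ring
      exact e.trans (congrArg Subtype.val h)
    by_cases h0 : a - c = 0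
    · exact .inl (W'.u_eq_one.2 ⟨h0, neg_eq_zero.2 h0⟩)
    by_cases h1 : a - c = hh t
    · exact .inr (.inl ((W'.u_eq.2 ⟨h1, by linear_combination -h1 - two_mul_hh⟩).trans hzc'.symm))
    have h2 : z * (u (a - c) (-(a - c)) : G) = u (hh t + (a - c)) (-(hh t + (a - c))) :=
      (congrArg (· * _) hzc').trans
        ((W'.uu _ _ _ _).trans (W'.u_eq.2 ⟨rfl, by linear_combination two_mul_hh⟩))
    have h3 : hh t + (a - c) ≠ 0 := fun h => h1 (by linear_combination h - two_mul_hh)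
    rw [h2]
    exact .inr (.inr ⟨hns _ h0 h1, hns _ h3 fun h => h0 (by linear_combination h),
      Set.mem_of_eq_of_mem hzc' (z_mem_zpowers W' h0).2,
      Set.mem_of_eq_of_mem hzc' (z_mem_zpowers W' h3).2⟩)
  · rw [eq_T0 W' hUS hU hUn, ← centralizer_T0 W', ← hzc']

end Cfsg.Agent.ABG
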