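import Mathlib
import Cfsg.Agent.ABG.CompareB

/-! Comparison in the wreathed case: the characters. -/

set_option autoImplicit false

namespace Cfsg.Agent.ABG

open Cfsg.Agent.Ch Cfsg.Agent.Blk Cfsg.Agent.Blk.PB Cfsg.Agent.Blk.Q8 Finset
open scoped ComplexConjugate

variable {G K : Type*} [Group G] [Group K] [Finite G] {M : Ideal AlgInt}

theorem WrD.core' {t : G} {Z : Subgroup G} {π : Subgroup.centralizer ({t} : Set G) →* K}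
    {P : Sylow 2 K} {σ τ : K} {k : ℕ} {μ : K →* ℂˣ} {u : Subgroup.centralizer ({t} : Set G)}
    {C : Subgroup G} {hC : C ≤ Subgroup.centralizer ({t} : Set G)} {v : C →* C} {A : Subgroup G}
    {hA : A ≤ Subgroup.centralizer ({t} : Set G)} {ρ w : A →* A}
    {ν : Subgroup.centralizer ({t} : Set G) →* ℂˣ} (E : WrD t Z π P σ τ k μ u C hC v A hA ρ w ν)
    [Fintype K] {S R Φ : K → ℂ} {Q : ℤ} (D : DihData M σ k μ S R Φ Q) (hM : IsPModular 2 M)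
    {l : C →* ℂˣ} (hl : Function.Injective l) :
    ∃ θ : G → ℂ, Desc t Z C (fun y => S (π y)) θ (fun a => 1 - l (v a) + (1 - l a))
        (fun a => 1 - l a) (fun a => (1 - l a) * (-1 : ℤ)) ∧ STri M θ (Q ^ 3) := by
  classical
  have := Fintype.ofFinite C
  have := Fintype.ofFinite A
  have := Fintype.ofFinite Z
  have := E.cyc
  have hZ := E.bas.hZ
  obtain ⟨d₁, d₂, Co⟩ := E.bas.loc.exists_cols hM D
  obtain ⟨m, hm⟩ := D.exact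
  obtain ⟨V, T, hV⟩ := E.ct.exists_tor Co hM hZ E.bas.loc D.deg (η := -1)
    (m := -(2 ^ k * (2 * m + 1)) - 1) rfl (by rw [E.cardC]; push_cast; ring)
    (by rw [E.cardC]; push_cast; linear_combination -(Nat.card Z : ℤ) * hm)
  obtain ⟨W, T', hW⟩ := E.st.exists_tor Co hM hZ E.bas.loc D.deg (η := 1) (m := -(2 * m + 1)) rfl
    (by rw [E.cardA]; push_cast; ring)
    (by rw [E.cardA]; push_cast; linear_combination -(Nat.card Z : ℤ) * hm)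
  have htZ := E.bas.mem
  let x : C := ⟨t, E.ct.le htZ⟩
  let x' : A := ⟨t, E.st.le htZ⟩
  have hx1 : x ≠ 1 := fun e => E.bas.ne_one (congrArg Subtype.val e)
  have hx1' : x' ≠ 1 := fun e => E.bas.ne_one (congrArg Subtype.val e)
  have hwx : v x = x := (E.ct.fix x).2 htZ
  have lx : (l x : ℂ) = -1 := inj_hom_two hl (Subtype.ext E.bas.sq) hx1
  have fC : ∀ ψ : Subgroup.centralizer ({t} : Set G) →* ℂˣ,
      (ψ.comp (Subgroup.inclusion hC)).comp v = ψ.comp (Subgroup.inclusion hC) := fun ψ =>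
    MonoidHom.ext fun a => (hom_isConj ψ (E.vH a)).symm
  have fA : ∀ ψ : Subgroup.centralizer ({t} : Set G) →* ℂˣ,
      (ψ.comp (Subgroup.inclusion hA)).comp w = ψ.comp (Subgroup.inclusion hA) := fun ψ =>
    MonoidHom.ext fun a => (hom_isConj ψ (E.wH a)).symm
  have par : ∀ (ψ : Subgroup.centralizer ({t} : Set G) →* ℂˣ) (i : pb M G),
      2 ∣ W (ψ.comp (Subgroup.inclusion hA)) i - V (ψ.comp (Subgroup.inclusion hC)) i := by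
    intro ψ i
    obtain ⟨n, e, h1, h2, h3⟩ := hV (ψ.comp (Subgroup.inclusion hC)) i
    obtain ⟨n', e', e'', h4, h5, h6⟩ := hW (ψ.comp (Subgroup.inclusion hA)) i (fA ψ)
    obtain ⟨r, hr⟩ := E.par (fun g => i.1.1 g * conj (1 - ψ g : ℂ))
      ((i.1.isGeneralizedCharacter.restrict _).mul (IsGeneralizedCharacter.one.sub
        (isCharacter_monoidHom_units ψ).isGeneralizedCharacter).complexConj) n' n h4 h1
    obtain rfl : e = e' := Int.cast_injective (α := ℂ)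
      (mul_left_cancel₀ (natCard_ne_zero Z) (h2.symm.trans h5))
    obtain ⟨j, rfl⟩ : ∃ j, k = j + 1 := ⟨k - 1, by have := E.bas.hk; omega⟩
    exact ⟨r - m * e - (2 * m + 1) * e'' + 2 ^ j * (2 * m + 1) * e, by
      linear_combination h6 - h3 + hr⟩
  obtain ⟨c₀, hc₀⟩ := E.μC
  obtain ⟨a₀, ha₀⟩ := E.gen
  have νc : (ν (Subgroup.inclusion hC c₀) : ℂ) ^ 2 = -1 := by
    rw [pow_two, ← Units.val_mul, E.νsq, hc₀]
  have νa : (ν (Subgroup.inclusion hA a₀) : ℂ) ^ 2 = -1 := by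
    rw [pow_two, ← Units.val_mul, E.νsq, ha₀, E.bas.μσ]
  obtain ⟨ν', hν'⟩ : ∃ ν' : Subgroup.centralizer ({t} : Set G) →* ℂˣ, ∀ g, ν' g = (ν g)⁻¹ :=
    ⟨ν⁻¹, fun _ => rfl⟩
  have νc' : (ν' (Subgroup.inclusion hC c₀) : ℂ) ^ 2 = -1 := by simp [hν', νc]
  have νa' : (ν' (Subgroup.inclusion hA a₀) : ℂ) ^ 2 = -1 := by simp [hν', νa]
  have sq : ∀ {Y : Type _} [Group Y] {κ κ' : Y →* ℂˣ} (a : Y), (κ a : ℂ) ^ 2 = 1 →
      (κ' a : ℂ) ^ 2 = -1 → κ ≠ κ' := fun a h h' e => by rw [e, h'] at h; norm_num at h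
  have sq1 : ∀ {Y : Type _} [Group Y] {κ : Y →* ℂˣ} (a : Y), (κ a : ℂ) ^ 2 = -1 → κ ≠ 1 :=
    fun a h => (sq a (by simp) h).symm
  have μ2 : ∀ g, (μ g : ℂ) ^ 2 = 1 := fun g => by rw [pow_two, ← Units.val_mul, E.bas.μsq]; rfl
  have ne : ∀ {κ κ' : {κ : C →* ℂˣ // κ ≠ 1}} (a : C), κ.1 a ≠ κ'.1 a → κ ≠ κ' :=
    fun a h e => h (by rw [e])
  have hl1 : ∀ {Y : Type _} [Group Y] {κ : Y →* ℂˣ} (a : Y), (κ a : ℂ) = -1 → κ ≠ 1 :=
    fun a h e => by rw [e] at h; norm_num at h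
  have hw0 : l (v c₀) ≠ l c₀ := fun e => by
    rw [E.bas.loc.map_Z (z := Subgroup.inclusion hC c₀) ((E.ct.fix _).1 (hl e))] at hc₀
    norm_num at hc₀
  have hc2 : l c₀ ≠ (l c₀)⁻¹ := fun e => by
    rw [pow_two, ← Units.val_mul, ← map_mul, ← map_mul, show c₀ * c₀ = 1 from hl (by
      rw [map_mul, map_one]; exact mul_eq_one_iff_eq_inv.2 e)] at νc
    norm_num at νc
  obtain ⟨b, hb⟩ := E.ninv
  let mC : {κ : C →* ℂˣ // κ ≠ 1} := ⟨(μ.comp π).comp (Subgroup.inclusion hC), hl1 c₀ hc₀⟩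
  let n₁ : {κ : C →* ℂˣ // κ ≠ 1} :=
    ⟨ν.comp (Subgroup.inclusion hC), sq1 c₀ νc⟩
  let n₂ : {κ : C →* ℂˣ // κ ≠ 1} :=
    ⟨ν'.comp (Subgroup.inclusion hC), sq1 c₀ νc'⟩
  let k₁ : {κ : A →* ℂˣ // κ ≠ 1} := ⟨(μ.comp π).comp (Subgroup.inclusion hA),
    hl1 a₀ ((congrArg (fun g => (μ g : ℂ)) ha₀).trans E.bas.μσ)⟩
  have c1 := (E.st.count_dual k₁.2).2 (fA _)
  have horth := T'.cross Co hM hZ T fun a b hb h =>
    ⟨b, E.cross a b h.symm, fun e => hb (Subtype.ext e), IsConj.refl _⟩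
  have hv := T.vl Co hM hZ E.ct.inv
  have hmn₁ : mC ≠ n₁ := fun e => (sq c₀ (μ2 _) νc : mC.1 ≠ n₁.1) (congrArg Subtype.val e)
  have hmn₂ : mC ≠ n₂ := fun e => (sq c₀ (μ2 _) νc' : mC.1 ≠ n₂.1) (congrArg Subtype.val e)
  have hn : n₁ ≠ n₂ := ne c₀ fun e => by
    rw [pow_two, ← Units.val_mul, mul_eq_one_iff_eq_inv.2 (show ν _ = (ν _)⁻¹ from e.trans (hν' _))] at νc
    norm_num at νc
  have p₁ : dual E.ct.inv ⟨l, hl1 x lx⟩ ≠ ⟨l, hl1 x lx⟩ := ne c₀ hw0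
  have p₂ : dual E.ct.inv ⟨l⁻¹, hl1 x (by simp [lx])⟩ ≠ ⟨l⁻¹, hl1 x (by simp [lx])⟩ :=
    ne c₀ fun e => hw0 (inv_injective e)
  have p₃ : dual E.ct.inv ⟨l, hl1 x lx⟩ ≠ ⟨l⁻¹, hl1 x (by simp [lx])⟩ :=
    ne b fun e => hb (hl (e.trans (map_inv l b).symm))
  obtain ⟨x₁, x₂, x₃, x₄, y, s₁, s₂, s₃, s₄, s, hp⟩ := hv.exists_pat (σ := W k₁.1) (m := mC) p₁ p₂
    (ne c₀ hc2) p₃ (Or.inr ⟨mC, n₁, n₂, Subtype.ext (fC _), Subtype.ext (fC _), Subtype.ext (fC _),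
      hmn₁, hmn₂, hn⟩) (Subtype.ext (fC _)) (T'.one Co hM hZ k₁.2) (by rw [T'.gram6 k₁.2 k₁.2, c1]; rfl)
    (fun b => horth _ _) (par _)
  have c0 : ∀ κ : A →* ℂˣ, (κ a₀ : ℂ) ^ 2 = -1 → cnt6 ρ w k₁.1 κ = 0 := fun κ h =>
    sum_eq_zero fun j _ => if_neg (sq a₀ (μ2 _) h)
  have wy := hp.weyl hv (P := fun κ : {κ : A →* ℂˣ // κ ≠ 1} => W κ.1)
    (c := fun κ κ' => cnt6 ρ w κ.1 κ'.1) (k₁ := k₁)
    (k₂ := ⟨ν.comp (Subgroup.inclusion hA), sq1 a₀ νa⟩)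
    (k₃ := ⟨ν'.comp (Subgroup.inclusion hA), sq1 a₀ νa'⟩)
    (fun κ => T'.one Co hM hZ κ.2) (fun κ κ' => T'.gram6 κ.2 κ'.2)
    (fun κ => (E.st.count_dual κ.2).1) (fun _ _ => T'.eq_of_cnt6 hZ)
    (fun κ b => horth _ _) rfl (Subtype.ext (fC _)) p₁ p₂ (ne c₀ hc2) p₃ (Subtype.ext (fC _))
    (Subtype.ext (fC _)) hmn₁ hmn₂ hn (c0 _ νa) (c0 _ νa') (par _) (par _)
  obtain ⟨v₁, v₂, v₃, v₄, vy⟩ := T.pat_vals hp p₁ hx1
  have μx : mC.1 x = 1 := (congrArg μ (E.bas.loc.map_Z htZ)).trans (map_one μ)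
  simp only [μx, hwx, lx, Units.val_one] at v₂ v₃ vy
  obtain ⟨-, -, g₂, g₃, -⟩ := hp.sig_vals
  have w₁ := T'.val_const hx1' fun κ hκ => (wy ⟨κ, hκ⟩).1
  have w₄ := T'.val_const hx1' fun κ hκ => (wy ⟨κ, hκ⟩).2.1
  have wy' := T'.val_const hx1' fun κ hκ => (wy ⟨κ, hκ⟩).2.2.1
  have w₂ := T'.val6 hZ k₁.2 c1 hx1' (E.mu_t rfl) fun κ hκ h => ((wy ⟨κ, hκ⟩).2.2.2 h).1
  have w₃ := T'.val6 hZ k₁.2 c1 hx1' (E.mu_t rfl) fun κ hκ h => ((wy ⟨κ, hκ⟩).2.2.2 h).2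
  have val := fun i => Co.two_val hZ E.bas.loc htZ E.bas.ne_one i
  simp only [D.deg] at val
  change tf _ _ _ (-1) t _ = _ at v₁ v₂ v₃ v₄ vy
  change tf _ _ _ 1 t _ = _ at w₁ w₂ w₃ w₄ wy'
  have t₁ : x₁.1.1 t = s₁ * Q := by have := val x₁; rw [v₁, w₁] at this; linear_combination this / 2
  have t₂ : x₂.1.1 t = s₂ * (2 * Q + 1 : ℤ) := by
    have := val x₂; rw [v₂, w₂, g₂] at this; push_cast at this ⊢; linear_combination this / 2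
  have t₃ : x₃.1.1 t = s₃ * (Q + 2 : ℤ) := by
    have := val x₃; rw [v₃, w₃, g₃] at this; push_cast at this ⊢; linear_combination this / 2
  have t₄ : x₄.1.1 t = s₄ * (Q + 1 : ℤ) := by
    have := val x₄; rw [v₄, w₄] at this; push_cast at this ⊢; linear_combination this / 2
  have ty : y.1.1 t = s * (1 - Q : ℤ) := by
    have := val y; rw [vy, wy'] at this; push_cast at this ⊢; linear_combination this / 2
  have j₁ := (hp.sum_a pbd).symm.trans (hv.deg _)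
  have j₂ := (hp.sum_m pbd).symm.trans (hv.deg _)
  have j₃ := (hp.sum_sig pbd).symm.trans (T'.deg Co hM hZ _)
  simp only [Int.cast_id, hv.od] at j₁ j₂ j₃
  have r₁ : s * pbd y = s₁ * pbd x₁ - 1 := by omega
  have r₂ : s₂ * pbd x₂ = s₁ * pbd x₁ - 1 + s₃ * pbd x₃ := by omega
  have r₄ : s₄ * pbd x₄ = s₃ * pbd x₃ - 1 := by omega
  have dv : ∀ {r : ℤ} (i : pb M G) {d : ℤ}, r * pbd i = d → r * i.1.1 1 = d := fun i _ h => by
    rw [← h, ← pbd_cast, Int.cast_mul]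
  have e1 := E.class_eqC D Co hM T l (x := x) rfl (α := 1) (by rw [lx]; ring)
  have e2 := E.class_eqC D Co hM T mC.1 (x := x) rfl (α := 0) (by simp [μx])
  have e3 := E.class_eqA D Co hM T' (κ := k₁.1) fun _ => rfl
  rw [hp.sum_a, sg_div hp.sg₁ t₁ (dv _ rfl), sg_div hp.sg ty (dv _ r₁)] at e1
  rw [hp.sum_m, sg_div hp.sg₁ t₁ (dv _ rfl), sg_div hp.sg₂ t₂ (dv _ r₂),
    sg_div hp.sg₃ t₃ (dv _ rfl)] at e2
  rw [hp.sum_sig, sg_div hp.sg₁ t₁ (dv _ rfl), sg_div hp.sg₂ t₂ (dv _ r₂),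
    sg_div hp.sg₃ t₃ (dv _ rfl), sg_div hp.sg₄ t₄ (dv _ r₄)] at e3
  obtain ⟨q₁, -⟩ := wr_arith Nat.card_pos.ne' Nat.card_pos.ne' Nat.card_pos.ne' (E.bas.mod D).1
    (E.bas.mod D).2 (sg_mul_ne hp.sg₁ x₁) (r₁ ▸ sg_mul_ne hp.sg y) (r₂ ▸ sg_mul_ne hp.sg₂ x₂)
    (sg_mul_ne hp.sg₃ x₃) (r₄ ▸ sg_mul_ne hp.sg₄ x₄) (by convert e1 using 2 <;> simp [pbo])
    (by convert e2 using 2 <;> simp [pbo]) (by convert e3 using 2; simp [pbo])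
  exact ⟨th (V l), T.desc Co hM hZ E.bas.loc E.ct l, x₁, y, s₁, s, hp.sg₁, hp.sg,
    hp.ne₂.2.2.2.symm, fun e => hp.ne₁.1 (Subtype.ext e), q₁.symm, q₁ ▸ r₁.symm,
    fun g => hp.sum_a fun i => i.1.1 g⟩

end Cfsg.Agent.ABG
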